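import Cfsg.Agent.Lib.JThreeUniq.Certs
import Cfsg.Agent.Lib.JThreeUniq.Data.JustK18_0

/-!
Justifications of certificate K18_, part 0.
-/

set_option autoImplicit false
set_option maxRecDepth 100000

namespace CfsgLib.JThreeUniq

theorem chkK18_0_0 : certK18_.chunkB 0 Data.jsK18_0_0 = true := by decide +kernel

theorem chkK18_0_1 : certK18_.chunkB 250 Data.jsK18_0_1 = true := by decide +kernel

end CfsgLib.JThreeUniq
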