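import Cfsg.Agent.Lib.JThreeUniq.Close
import Cfsg.Agent.Lib.JThreeUniq.Certs
import Cfsg.Agent.Lib.JThreeUniq.Data.Live

/-!
The double cosets of certificate M, part 0.
-/

set_option autoImplicit false
set_option maxRecDepth 100000

namespace CfsgLib.JThreeUniq

theorem live0 : certM.liveB 13007 Data.liveV Data.repT Data.repS (Data.liveV.getD 0 0) (digs (Data.stabV.getD 0 0)) (digs (Data.cosV.getD 0 0))
    (digs (Data.edgeT.getD 0 0)) (digs (Data.edgeS.getD 0 0)) = true := by decide +kernel

theorem live1 : certM.liveB 13007 Data.liveV Data.repT Data.repS (Data.liveV.getD 1 0) (digs (Data.stabV.getD 1 0)) (digs (Data.cosV.getD 1 0))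
    (digs (Data.edgeT.getD 1 0)) (digs (Data.edgeS.getD 1 0)) = true := by decide +kernel

theorem live2 : certM.liveB 13007 Data.liveV Data.repT Data.repS (Data.liveV.getD 2 0) (digs (Data.stabV.getD 2 0)) (digs (Data.cosV.getD 2 0))
    (digs (Data.edgeT.getD 2 0)) (digs (Data.edgeS.getD 2 0)) = true := by decide +kernel

theorem live3 : certM.liveB 13007 Data.liveV Data.repT Data.repS (Data.liveV.getD 3 0) (digs (Data.stabV.getD 3 0)) (digs (Data.cosV.getD 3 0))
    (digs (Data.edgeT.getD 3 0)) (digs (Data.edgeS.getD 3 0)) = true := by decide +kernel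

theorem live4 : certM.liveB 13007 Data.liveV Data.repT Data.repS (Data.liveV.getD 4 0) (digs (Data.stabV.getD 4 0)) (digs (Data.cosV.getD 4 0))
    (digs (Data.edgeT.getD 4 0)) (digs (Data.edgeS.getD 4 0)) = true := by decide +kernel

theorem live5 : certM.liveB 13007 Data.liveV Data.repT Data.repS (Data.liveV.getD 5 0) (digs (Data.stabV.getD 5 0)) (digs (Data.cosV.getD 5 0))
    (digs (Data.edgeT.getD 5 0)) (digs (Data.edgeS.getD 5 0)) = true := by decide +kernel

theorem live6 : certM.liveB 13007 Data.liveV Data.repT Data.repS (Data.liveV.getD 6 0) (digs (Data.stabV.getD 6 0)) (digs (Data.cosV.getD 6 0))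
    (digs (Data.edgeT.getD 6 0)) (digs (Data.edgeS.getD 6 0)) = true := by decide +kernel

theorem live7 : certM.liveB 13007 Data.liveV Data.repT Data.repS (Data.liveV.getD 7 0) (digs (Data.stabV.getD 7 0)) (digs (Data.cosV.getD 7 0))
    (digs (Data.edgeT.getD 7 0)) (digs (Data.edgeS.getD 7 0)) = true := by decide +kernel

theorem live8 : certM.liveB 13007 Data.liveV Data.repT Data.repS (Data.liveV.getD 8 0) (digs (Data.stabV.getD 8 0)) (digs (Data.cosV.getD 8 0))
    (digs (Data.edgeT.getD 8 0)) (digs (Data.edgeS.getD 8 0)) = true := by decide +kernel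

end CfsgLib.JThreeUniq
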