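import Cfsg.Agent.Lib.JThreeUniq.Close
import Cfsg.Agent.Lib.JThreeUniq.Certs
import Cfsg.Agent.Lib.JThreeUniq.Data.Live

/-!
The double cosets of certificate M, part 1.
-/

set_option autoImplicit false
set_option maxRecDepth 100000

namespace CfsgLib.JThreeUniq

theorem live9 : certM.liveB 13007 Data.liveV Data.repT Data.repS (Data.liveV.getD 9 0) (digs (Data.stabV.getD 9 0)) (digs (Data.cosV.getD 9 0))
    (digs (Data.edgeT.getD 9 0)) (digs (Data.edgeS.getD 9 0)) = true := by decide +kernel

theorem live10 : certM.liveB 13007 Data.liveV Data.repT Data.repS (Data.liveV.getD 10 0) (digs (Data.stabV.getD 10 0)) (digs (Data.cosV.getD 10 0))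
    (digs (Data.edgeT.getD 10 0)) (digs (Data.edgeS.getD 10 0)) = true := by decide +kernel

theorem live11 : certM.liveB 13007 Data.liveV Data.repT Data.repS (Data.liveV.getD 11 0) (digs (Data.stabV.getD 11 0)) (digs (Data.cosV.getD 11 0))
    (digs (Data.edgeT.getD 11 0)) (digs (Data.edgeS.getD 11 0)) = true := by decide +kernel

theorem live12 : certM.liveB 13007 Data.liveV Data.repT Data.repS (Data.liveV.getD 12 0) (digs (Data.stabV.getD 12 0)) (digs (Data.cosV.getD 12 0))
    (digs (Data.edgeT.getD 12 0)) (digs (Data.edgeS.getD 12 0)) = true := by decide +kernel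

theorem live13 : certM.liveB 13007 Data.liveV Data.repT Data.repS (Data.liveV.getD 13 0) (digs (Data.stabV.getD 13 0)) (digs (Data.cosV.getD 13 0))
    (digs (Data.edgeT.getD 13 0)) (digs (Data.edgeS.getD 13 0)) = true := by decide +kernel

theorem live14 : certM.liveB 13007 Data.liveV Data.repT Data.repS (Data.liveV.getD 14 0) (digs (Data.stabV.getD 14 0)) (digs (Data.cosV.getD 14 0))
    (digs (Data.edgeT.getD 14 0)) (digs (Data.edgeS.getD 14 0)) = true := by decide +kernel

theorem live15 : certM.liveB 13007 Data.liveV Data.repT Data.repS (Data.liveV.getD 15 0) (digs (Data.stabV.getD 15 0)) (digs (Data.cosV.getD 15 0))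
    (digs (Data.edgeT.getD 15 0)) (digs (Data.edgeS.getD 15 0)) = true := by decide +kernel

theorem live16 : certM.liveB 13007 Data.liveV Data.repT Data.repS (Data.liveV.getD 16 0) (digs (Data.stabV.getD 16 0)) (digs (Data.cosV.getD 16 0))
    (digs (Data.edgeT.getD 16 0)) (digs (Data.edgeS.getD 16 0)) = true := by decide +kernel

theorem live17 : certM.liveB 13007 Data.liveV Data.repT Data.repS (Data.liveV.getD 17 0) (digs (Data.stabV.getD 17 0)) (digs (Data.cosV.getD 17 0))
    (digs (Data.edgeT.getD 17 0)) (digs (Data.edgeS.getD 17 0)) = true := by decide +kernel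

end CfsgLib.JThreeUniq
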