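import Cfsg.Agent.Lib.JThreeUniq.Close
import Cfsg.Agent.Lib.JThreeUniq.Certs
import Cfsg.Agent.Lib.JThreeUniq.Data.Live

/-!
The double cosets of certificate M, part 2.
-/

set_option autoImplicit false
set_option maxRecDepth 100000

namespace CfsgLib.JThreeUniq

theorem live18 : certM.liveB 13007 Data.liveV Data.repT Data.repS (Data.liveV.getD 18 0) (digs (Data.stabV.getD 18 0)) (digs (Data.cosV.getD 18 0))
    (digs (Data.edgeT.getD 18 0)) (digs (Data.edgeS.getD 18 0)) = true := by decide +kernel

theorem live19 : certM.liveB 13007 Data.liveV Data.repT Data.repS (Data.liveV.getD 19 0) (digs (Data.stabV.getD 19 0)) (digs (Data.cosV.getD 19 0))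
    (digs (Data.edgeT.getD 19 0)) (digs (Data.edgeS.getD 19 0)) = true := by decide +kernel

theorem live20 : certM.liveB 13007 Data.liveV Data.repT Data.repS (Data.liveV.getD 20 0) (digs (Data.stabV.getD 20 0)) (digs (Data.cosV.getD 20 0))
    (digs (Data.edgeT.getD 20 0)) (digs (Data.edgeS.getD 20 0)) = true := by decide +kernel

theorem live21 : certM.liveB 13007 Data.liveV Data.repT Data.repS (Data.liveV.getD 21 0) (digs (Data.stabV.getD 21 0)) (digs (Data.cosV.getD 21 0))
    (digs (Data.edgeT.getD 21 0)) (digs (Data.edgeS.getD 21 0)) = true := by decide +kernel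

theorem live22 : certM.liveB 13007 Data.liveV Data.repT Data.repS (Data.liveV.getD 22 0) (digs (Data.stabV.getD 22 0)) (digs (Data.cosV.getD 22 0))
    (digs (Data.edgeT.getD 22 0)) (digs (Data.edgeS.getD 22 0)) = true := by decide +kernel

theorem live23 : certM.liveB 13007 Data.liveV Data.repT Data.repS (Data.liveV.getD 23 0) (digs (Data.stabV.getD 23 0)) (digs (Data.cosV.getD 23 0))
    (digs (Data.edgeT.getD 23 0)) (digs (Data.edgeS.getD 23 0)) = true := by decide +kernel

theorem live24 : certM.liveB 13007 Data.liveV Data.repT Data.repS (Data.liveV.getD 24 0) (digs (Data.stabV.getD 24 0)) (digs (Data.cosV.getD 24 0))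
    (digs (Data.edgeT.getD 24 0)) (digs (Data.edgeS.getD 24 0)) = true := by decide +kernel

theorem live25 : certM.liveB 13007 Data.liveV Data.repT Data.repS (Data.liveV.getD 25 0) (digs (Data.stabV.getD 25 0)) (digs (Data.cosV.getD 25 0))
    (digs (Data.edgeT.getD 25 0)) (digs (Data.edgeS.getD 25 0)) = true := by decide +kernel

theorem live26 : certM.liveB 13007 Data.liveV Data.repT Data.repS (Data.liveV.getD 26 0) (digs (Data.stabV.getD 26 0)) (digs (Data.cosV.getD 26 0))
    (digs (Data.edgeT.getD 26 0)) (digs (Data.edgeS.getD 26 0)) = true := by decide +kernel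

end CfsgLib.JThreeUniq
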