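import Cfsg.Agent.Lib.JThreeUniq.Certs
import Cfsg.Agent.Lib.JThreeUniq.Data.JustM0

/-!
Justifications of certificate M, part 0.
-/

set_option autoImplicit false
set_option maxRecDepth 100000

namespace CfsgLib.JThreeUniq

theorem chkM0_0 : certM.chunkB 0 Data.jsM0_0 = true := by decide +kernel

theorem chkM0_1 : certM.chunkB 250 Data.jsM0_1 = true := by decide +kernel

theorem chkM0_2 : certM.chunkB 500 Data.jsM0_2 = true := by decide +kernel

theorem chkM0_3 : certM.chunkB 750 Data.jsM0_3 = true := by decide +kernel

theorem chkM0_4 : certM.chunkB 1000 Data.jsM0_4 = true := by decide +kernel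

theorem chkM0_5 : certM.chunkB 1250 Data.jsM0_5 = true := by decide +kernel

end CfsgLib.JThreeUniq
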