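import Cfsg.Agent.Lib.JThreeUniq.Certs
import Cfsg.Agent.Lib.JThreeUniq.Data.JustM1

/-!
Justifications of certificate M, part 1.
-/

set_option autoImplicit false
set_option maxRecDepth 100000

namespace CfsgLib.JThreeUniq

theorem chkM1_0 : certM.chunkB 1500 Data.jsM1_0 = true := by decide +kernel

theorem chkM1_1 : certM.chunkB 1750 Data.jsM1_1 = true := by decide +kernel

theorem chkM1_2 : certM.chunkB 2000 Data.jsM1_2 = true := by decide +kernel

theorem chkM1_3 : certM.chunkB 2250 Data.jsM1_3 = true := by decide +kernel

theorem chkM1_4 : certM.chunkB 2500 Data.jsM1_4 = true := by decide +kernel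

theorem chkM1_5 : certM.chunkB 2750 Data.jsM1_5 = true := by decide +kernel

end CfsgLib.JThreeUniq
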