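import Cfsg.Agent.Lib.JThreeUniq.Certs
import Cfsg.Agent.Lib.JThreeUniq.Data.JustM2

/-!
Justifications of certificate M, part 2.
-/

set_option autoImplicit false
set_option maxRecDepth 100000

namespace CfsgLib.JThreeUniq

theorem chkM2_0 : certM.chunkB 3000 Data.jsM2_0 = true := by decide +kernel

theorem chkM2_1 : certM.chunkB 3250 Data.jsM2_1 = true := by decide +kernel

theorem chkM2_2 : certM.chunkB 3500 Data.jsM2_2 = true := by decide +kernel

theorem chkM2_3 : certM.chunkB 3750 Data.jsM2_3 = true := by decide +kernel

theorem chkM2_4 : certM.chunkB 4000 Data.jsM2_4 = true := by decide +kernel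

theorem chkM2_5 : certM.chunkB 4250 Data.jsM2_5 = true := by decide +kernel

end CfsgLib.JThreeUniq
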