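import Cfsg.Agent.Lib.JThreeUniq.Certs
import Cfsg.Agent.Lib.JThreeUniq.Data.JustM3

/-!
Justifications of certificate M, part 3.
-/

set_option autoImplicit false
set_option maxRecDepth 100000

namespace CfsgLib.JThreeUniq

theorem chkM3_0 : certM.chunkB 4500 Data.jsM3_0 = true := by decide +kernel

theorem chkM3_1 : certM.chunkB 4750 Data.jsM3_1 = true := by decide +kernel

theorem chkM3_2 : certM.chunkB 5000 Data.jsM3_2 = true := by decide +kernel

theorem chkM3_3 : certM.chunkB 5250 Data.jsM3_3 = true := by decide +kernel

theorem chkM3_4 : certM.chunkB 5500 Data.jsM3_4 = true := by decide +kernel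

theorem chkM3_5 : certM.chunkB 5750 Data.jsM3_5 = true := by decide +kernel

end CfsgLib.JThreeUniq
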