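import Cfsg.Agent.Lib.JThreeUniq.Certs
import Cfsg.Agent.Lib.JThreeUniq.Data.JustM4

/-!
Justifications of certificate M, part 4.
-/

set_option autoImplicit false
set_option maxRecDepth 100000

namespace CfsgLib.JThreeUniq

theorem chkM4_0 : certM.chunkB 6000 Data.jsM4_0 = true := by decide +kernel

theorem chkM4_1 : certM.chunkB 6250 Data.jsM4_1 = true := by decide +kernel

theorem chkM4_2 : certM.chunkB 6500 Data.jsM4_2 = true := by decide +kernel

theorem chkM4_3 : certM.chunkB 6750 Data.jsM4_3 = true := by decide +kernel

theorem chkM4_4 : certM.chunkB 7000 Data.jsM4_4 = true := by decide +kernel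

theorem chkM4_5 : certM.chunkB 7250 Data.jsM4_5 = true := by decide +kernel

end CfsgLib.JThreeUniq
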