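import Cfsg.Agent.Lib.JThreeUniq.Certs
import Cfsg.Agent.Lib.JThreeUniq.Data.JustM5

/-!
Justifications of certificate M, part 5.
-/

set_option autoImplicit false
set_option maxRecDepth 100000

namespace CfsgLib.JThreeUniq

theorem chkM5_0 : certM.chunkB 7500 Data.jsM5_0 = true := by decide +kernel

theorem chkM5_1 : certM.chunkB 7750 Data.jsM5_1 = true := by decide +kernel

theorem chkM5_2 : certM.chunkB 8000 Data.jsM5_2 = true := by decide +kernel

theorem chkM5_3 : certM.chunkB 8250 Data.jsM5_3 = true := by decide +kernel

theorem chkM5_4 : certM.chunkB 8500 Data.jsM5_4 = true := by decide +kernel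

theorem chkM5_5 : certM.chunkB 8750 Data.jsM5_5 = true := by decide +kernel

end CfsgLib.JThreeUniq
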