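import Cfsg.Agent.Lib.JThreeUniq.Certs
import Cfsg.Agent.Lib.JThreeUniq.Data.JustM6

/-!
Justifications of certificate M, part 6.
-/

set_option autoImplicit false
set_option maxRecDepth 100000

namespace CfsgLib.JThreeUniq

theorem chkM6_0 : certM.chunkB 9000 Data.jsM6_0 = true := by decide +kernel

theorem chkM6_1 : certM.chunkB 9250 Data.jsM6_1 = true := by decide +kernel

theorem chkM6_2 : certM.chunkB 9500 Data.jsM6_2 = true := by decide +kernel

theorem chkM6_3 : certM.chunkB 9750 Data.jsM6_3 = true := by decide +kernel

theorem chkM6_4 : certM.chunkB 10000 Data.jsM6_4 = true := by decide +kernel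

theorem chkM6_5 : certM.chunkB 10250 Data.jsM6_5 = true := by decide +kernel

end CfsgLib.JThreeUniq
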