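import Cfsg.Agent.Lib.JThreeUniq.Certs
import Cfsg.Agent.Lib.JThreeUniq.Data.JustM7

/-!
Justifications of certificate M, part 7.
-/

set_option autoImplicit false
set_option maxRecDepth 100000

namespace CfsgLib.JThreeUniq

theorem chkM7_0 : certM.chunkB 10500 Data.jsM7_0 = true := by decide +kernel

theorem chkM7_1 : certM.chunkB 10750 Data.jsM7_1 = true := by decide +kernel

theorem chkM7_2 : certM.chunkB 11000 Data.jsM7_2 = true := by decide +kernel

theorem chkM7_3 : certM.chunkB 11250 Data.jsM7_3 = true := by decide +kernel

theorem chkM7_4 : certM.chunkB 11500 Data.jsM7_4 = true := by decide +kernel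

theorem chkM7_5 : certM.chunkB 11750 Data.jsM7_5 = true := by decide +kernel

end CfsgLib.JThreeUniq
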