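import Cfsg.Agent.Lib.JThreeUniq.Certs
import Cfsg.Agent.Lib.JThreeUniq.Data.JustM8

/-!
Justifications of certificate M, part 8.
-/

set_option autoImplicit false
set_option maxRecDepth 100000

namespace CfsgLib.JThreeUniq

theorem chkM8_0 : certM.chunkB 12000 Data.jsM8_0 = true := by decide +kernel

theorem chkM8_1 : certM.chunkB 12250 Data.jsM8_1 = true := by decide +kernel

theorem chkM8_2 : certM.chunkB 12500 Data.jsM8_2 = true := by decide +kernel

theorem chkM8_3 : certM.chunkB 12750 Data.jsM8_3 = true := by decide +kernel

theorem chkM8_4 : certM.chunkB 13000 Data.jsM8_4 = true := by decide +kernel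

end CfsgLib.JThreeUniq
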